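import Mathlib

/-!
Nat-coded arithmetic in the field with 16 elements (x⁴ = x + 1) and a certificate for
SU(3,4): 32 orbit representatives of the orthonormal triangles under an element of order 13.
-/

set_option autoImplicit false
set_option linter.style.longLine false

namespace CfsgLib.OrderDegrees.U34

def fmul (a b : ℕ) : ℕ := (116196760129267793630862849262464326346044543732748708940920453221664288556434379745879494961270582141731748813355742142288220638766218855867759359510984593843506004200114943278699875244065120512813025380665946106619127097398772031257643617143689515450995722003729973585221105779229319991106539050771048038400 >>> (4 * (16 * (a % 16) + b % 16))) % 16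

def conj4 (a : ℕ) : ℕ := (9924487649903846160 >>> (4 * (a % 16))) % 16

def lab (a : ℕ) : ℕ := (2527716909442671360 >>> (4 * (a % 16))) % 16

@[ext] structure M3 where
  (a b c d e f g h i : ℕ)
deriving DecidableEq

def M3.mul (X Y : M3) : M3 :=
  ⟨fmul X.a Y.a ^^^ fmul X.b Y.d ^^^ fmul X.c Y.g, fmul X.a Y.b ^^^ fmul X.b Y.e ^^^ fmul X.c Y.h, fmul X.a Y.c ^^^ fmul X.b Y.f ^^^ fmul X.c Y.i,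
   fmul X.d Y.a ^^^ fmul X.e Y.d ^^^ fmul X.f Y.g, fmul X.d Y.b ^^^ fmul X.e Y.e ^^^ fmul X.f Y.h, fmul X.d Y.c ^^^ fmul X.e Y.f ^^^ fmul X.f Y.i,
   fmul X.g Y.a ^^^ fmul X.h Y.d ^^^ fmul X.i Y.g, fmul X.g Y.b ^^^ fmul X.h Y.e ^^^ fmul X.i Y.h, fmul X.g Y.c ^^^ fmul X.h Y.f ^^^ fmul X.i Y.i⟩

def M3.star (X : M3) : M3 :=
  ⟨conj4 X.a, conj4 X.d, conj4 X.g, conj4 X.b, conj4 X.e, conj4 X.h, conj4 X.c, conj4 X.f, conj4 X.i⟩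

def M3.one : M3 := ⟨1, 0, 0, 0, 1, 0, 0, 0, 1⟩

def M3.evenPart (X : M3) : ℕ :=
  fmul (fmul X.a X.e) X.i ^^^ fmul (fmul X.b X.f) X.g ^^^ fmul (fmul X.c X.d) X.h

def M3.oddPart (X : M3) : ℕ :=
  fmul (fmul X.a X.f) X.h ^^^ fmul (fmul X.b X.d) X.i ^^^ fmul (fmul X.c X.e) X.g

/-- At most one nonzero entry in each row. -/
def M3.isMono (X : M3) : Bool :=
  (X.a == 0 && X.b == 0 || X.a == 0 && X.c == 0 || X.b == 0 && X.c == 0) &&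
  (X.d == 0 && X.e == 0 || X.d == 0 && X.f == 0 || X.e == 0 && X.f == 0) &&
  (X.g == 0 && X.h == 0 || X.g == 0 && X.i == 0 || X.h == 0 && X.i == 0)

def genA : M3 := ⟨9, 14, 1, 0, 4, 2, 13, 1, 3⟩

def powA : List M3 := [⟨1, 0, 0, 0, 1, 0, 0, 0, 1⟩,
  ⟨9, 14, 1, 0, 4, 2, 13, 1, 3⟩,
  ⟨0, 11, 5, 9, 1, 14, 11, 13, 10⟩,
  ⟨12, 15, 10, 7, 13, 10, 7, 3, 15⟩,
  ⟨13, 7, 12, 1, 7, 3, 13, 15, 3⟩,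
  ⟨12, 9, 4, 13, 2, 10, 11, 0, 5⟩,
  ⟨7, 2, 1, 4, 8, 4, 0, 13, 4⟩,
  ⟨7, 5, 0, 3, 15, 11, 1, 5, 5⟩,
  ⟨10, 11, 13, 14, 3, 0, 5, 12, 4⟩,
  ⟨11, 1, 11, 7, 7, 8, 10, 2, 2⟩,
  ⟨10, 7, 7, 8, 11, 2, 12, 12, 8⟩,
  ⟨0, 14, 13, 13, 1, 11, 4, 9, 12⟩,
  ⟨14, 0, 11, 9, 5, 1, 1, 3, 2⟩]

def reps : List M3 := [⟨0, 0, 1, 0, 1, 0, 1, 0, 0⟩,
  ⟨0, 2, 5, 0, 4, 3, 1, 0, 0⟩,
  ⟨0, 2, 6, 0, 6, 3, 1, 0, 0⟩,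
  ⟨0, 2, 14, 0, 9, 3, 1, 0, 0⟩,
  ⟨0, 2, 9, 0, 14, 3, 1, 0, 0⟩,
  ⟨0, 0, 12, 2, 4, 0, 4, 13, 0⟩,
  ⟨0, 0, 1, 2, 5, 0, 4, 3, 0⟩,
  ⟨0, 0, 8, 2, 6, 0, 4, 2, 0⟩,
  ⟨0, 0, 15, 2, 14, 0, 4, 11, 0⟩,
  ⟨0, 1, 0, 2, 0, 5, 4, 0, 3⟩,
  ⟨0, 2, 9, 2, 3, 15, 4, 1, 5⟩,
  ⟨0, 2, 5, 2, 7, 15, 4, 12, 5⟩,
  ⟨0, 2, 14, 2, 11, 15, 4, 8, 5⟩,
  ⟨0, 3, 4, 2, 2, 10, 4, 15, 6⟩,
  ⟨0, 3, 9, 2, 3, 10, 4, 1, 6⟩,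
  ⟨0, 3, 14, 2, 11, 10, 4, 8, 6⟩,
  ⟨0, 4, 11, 2, 12, 2, 4, 4, 15⟩,
  ⟨0, 5, 13, 2, 1, 7, 4, 14, 12⟩,
  ⟨0, 5, 3, 2, 10, 7, 4, 6, 12⟩,
  ⟨0, 5, 2, 2, 15, 7, 4, 5, 12⟩,
  ⟨0, 6, 7, 2, 8, 13, 4, 9, 10⟩,
  ⟨0, 6, 3, 2, 10, 13, 4, 6, 10⟩,
  ⟨0, 6, 2, 2, 15, 13, 4, 5, 10⟩,
  ⟨0, 7, 6, 2, 13, 8, 4, 10, 9⟩,
  ⟨0, 9, 11, 2, 12, 3, 4, 4, 1⟩,
  ⟨0, 11, 4, 2, 2, 12, 4, 15, 4⟩,
  ⟨0, 11, 6, 2, 13, 12, 4, 10, 4⟩,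
  ⟨0, 13, 14, 2, 11, 1, 4, 8, 14⟩,
  ⟨1, 7, 7, 1, 10, 12, 1, 13, 11⟩,
  ⟨1, 7, 7, 1, 11, 13, 1, 12, 10⟩,
  ⟨1, 2, 7, 1, 13, 13, 10, 12, 8⟩,
  ⟨1, 1, 8, 1, 2, 11, 15, 2, 2⟩]

def elt10 : M3 := ⟨0, 0, 15, 0, 8, 0, 1, 0, 0⟩

def elt15 : M3 := ⟨0, 2, 5, 0, 4, 3, 1, 0, 0⟩

def inSU (X : M3) : Bool :=
  decide (M3.mul X.star X = M3.one) && decide (X.evenPart ^^^ X.oddPart = 1)

def checkPair (i j : ℕ) : Bool :=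
  let term := fun k => ((reps.getD i M3.one).mul (powA.getD k M3.one)).mul (reps.getD j M3.one).star
  ((List.range 13).map fun k => lab (term k).evenPart).sum % 5 == 0 &&
    (List.range 13).all fun k => !(term k).isMono || (i == j && k == 0)

end CfsgLib.OrderDegrees.U34
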